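import Cfsg.Agent.Mrg.Omega.NO3b.Chain.Frame
import Cfsg.Agent.Mrg.Omega.NO3b.Closed.CountB
import Cfsg.Agent.Mrg.Omega.NO3b.Closed.InstPar
import Cfsg.Agent.Mrg.Omega.NOThreeL.Merge
import Cfsg.Agent.Mrg.Omega.NO3b.Exit.Bridge
import Cfsg.Agent.Mrg.Omega.NOThreeL.NF.Final
import Cfsg.Agent.Mrg.Omega.NO3b.BetaTwo.NoOver

-- merged: Cfsg.Agent.Mrg.Omega.NO3b.Chain.ToGeo
section

/-!
# NotFF (c), local exit: `(P, V_P)` is a pair for #19499

`P ∈ P*(S)`, `⟨P, C_G(Z)⟩` nonlocal, `V_P = ⟨Z^P⟩ ≤ O₂(C_G(Z))` not FF.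

* `Stage.geo` : `ClosedPt.Geo S Z V_P P`;
* `SH S P` : `V_P = ⨁ E_j`, `k ≥ 2`, `E_j` irreducible under `P`, all isomorphic as `S`-modules (helper255,
  LEMMA DESCENT);
* `good_of_sh` : good sets for all closed points; `exists_out` : a pair (closed point, exact end).
-/

set_option autoImplicit false

namespace Cfsg.Agent.Omega.NO3b.Chain

open Subgroup Cfsg
open Cfsg.Agent.ZN (o2 zc zl jj zj)
open Cfsg.Agent.ZN.ChoiceBase hiding mem_zc
open Cfsg.Agent.ZN.ChoiceSit (Syl o2_le_syl)
open Cfsg.Agent.MinSimple.EmptyTI (syl_of_le)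
open Cfsg.Agent.Omega.MinPar Cfsg.Agent.Omega.Frame Cfsg.Agent.Omega.FrameNOFF
open Cfsg.Agent.Omega.NO3b.EZero (NotFF Par cl cl_le le_cl cj_le_cl cent_symm oddGen_sup_syl)
open Cfsg.Agent.Omega.NO3b.Wc
open Cfsg.Agent.Omega.NO3b.ClosedPt (Flag Clo Geo GoodAt End Out)
open Cfsg.Agent.Omega.ML.Final (MLK)
open Cfsg.Agent.MinSimple.VModule (oddGen oddGen_le zc_le_zl le_normalizer_zl le_centralizer_zc le_normalizer_o2
  mem_zc zl_le)

universe u

variable {G : Type u} [Group G]

/-- **(SH)** `V_P = E₁^k`, `k ≥ 2`, as an `S`-module, the summands irreducible under `P` and not centralised by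
`O²(P)` (the form of helper255's `exists_shape`). -/
def SH (S P : Subgroup G) : Prop :=
  ∃ (k : ℕ) (E : Fin k → Subgroup G), 2 ≤ k ∧ iSupIndep E ∧ (⨆ j, E j) = zl S P ∧
    (∀ j, P ≤ normalizer (E j : Set G)) ∧
    (∀ j, ∀ A : Subgroup G, A ≤ E j → P ≤ normalizer (A : Set G) → A = ⊥ ∨ A = E j) ∧
    (∀ j, ¬ E j ≤ centralizer (oddGen P : Set G)) ∧
    ∀ i j, ∃ f : E i ≃* E j, (∀ y ∈ oddGen P, ∀ v w : E i, (w : G) = y * v * y⁻¹ → (f w : G) = y * f v * y⁻¹) ∧
      ∀ s ∈ S, ∀ v w : E i, (w : G) = s * v * s⁻¹ → (f w : G) = s * f v * s⁻¹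

variable [Finite G] {S : Sylow 2 G} {P : Subgroup G}

section

variable (h : Stage S P) (hc : IsCharacteristicTwoType G) (hne : zc (S : Subgroup G) ≠ ⊥)
include h hc hne

/-- conjugates of `V_P` which meet commute -/
theorem Stage.hz (a b : G) (hab : cj a (zl (S : Subgroup G) P) ⊓ cj b (zl (S : Subgroup G) P) ≠ ⊥) :
    cj a (zl (S : Subgroup G) P) ≤ centralizer ((cj b (zl (S : Subgroup G) P) : Subgroup G) : Set G) := by
  have l := h.lines hc hne
  have hV := h.zl_le_V
  have h1 : cj a (VL (S : Subgroup G) P) ⊓ cj b (VL (S : Subgroup G) P) ≠ ⊥ := fun h0 => hab (by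
    rw [eq_bot_iff, ← h0]
    exact inf_le_inf (cj_mono _ hV) (cj_mono _ hV))
  exact ((cj_mono _ hV).trans (l.comm_of_inter (l.char2 hc) h1)).trans (centralizer_le (cj_mono _ hV))

omit h hc hne in
theorem Stage.le_S (h : Stage S P) : zl (S : Subgroup G) P ≤ (S : Subgroup G) :=
  h.low.trans (o2_le_syl (syl_of_le (le_centralizer_zc _)))

/-- `⟨V_P^{C_G(Z)}⟩` is abelian -/
theorem Stage.W_comm : cl (zl (S : Subgroup G) P) (centralizer (zc (S : Subgroup G) : Set G)) ≤
    centralizer (cl (zl (S : Subgroup G) P) (centralizer (zc (S : Subgroup G) : Set G)) : Set G) := by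
  have key : ∀ c ∈ centralizer (zc (S : Subgroup G) : Set G), zc (S : Subgroup G) ≤ cj c (zl (S : Subgroup G) P) := by
    intro c hcc z hz
    rw [mem_cj]
    have h1 := mem_centralizer_iff.1 hcc z hz
    have e : c⁻¹ * z * c = z := by rw [mul_assoc, h1]; group
    rw [e]
    exact zc_le_zl _ _ hz
  refine cl_le fun a ha => cent_symm (cl_le fun b hb => ?_)
  refine h.hz hc hne b a fun h0 => hne ?_
  rw [eq_bot_iff, ← h0]
  exact le_inf (key b hb) (key a ha)

theorem Stage.W_sq : ∀ a ∈ cl (zl (S : Subgroup G) P) (centralizer (zc (S : Subgroup G) : Set G)), a ^ 2 = 1 := by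
  have hcomm : ∀ a ∈ cl (zl (S : Subgroup G) P) (centralizer (zc (S : Subgroup G) : Set G)),
      ∀ b ∈ cl (zl (S : Subgroup G) P) (centralizer (zc (S : Subgroup G) : Set G)), a * b = b * a :=
    fun a ha b hb => mem_centralizer_iff.1 (h.W_comm hc hne hb) a ha
  let K : Subgroup G :=
    { carrier := {a | a ∈ cl (zl (S : Subgroup G) P) (centralizer (zc (S : Subgroup G) : Set G)) ∧ a ^ 2 = 1}
      one_mem' := ⟨one_mem _, one_pow _⟩
      mul_mem' := fun {a b} ha hb => ⟨mul_mem ha.1 hb.1, by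
        rw [(show Commute a b from hcomm a ha.1 b hb.1).mul_pow, ha.2, hb.2, one_mul]⟩
      inv_mem' := fun {a} ha => ⟨inv_mem ha.1, by rw [inv_pow, ha.2, inv_one]⟩ }
  have h1 : cl (zl (S : Subgroup G) P) (centralizer (zc (S : Subgroup G) : Set G)) ≤ K := cl_le fun x hx y hy =>
    ⟨cj_le_cl hx hy, by
      have h2 := h.sq _ (mem_cj.1 hy)
      have e : y = x * (x⁻¹ * y * x) * x⁻¹ := by group
      rw [e, conj_pow, h2, mul_one, mul_inv_cancel]⟩
  exact fun a ha => (h1 ha).2

theorem Stage.flag : Flag (S : Subgroup G) (zc (S : Subgroup G)) (zl (S : Subgroup G) P) :=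
  Flag.of_fix (syl_of_le (le_centralizer_zc _)) (zc_le_zl _ _) (h.le.trans (le_normalizer_zl _ _)) h.low
    (h.W_comm hc hne) (fun v hv => by rw [← pow_two]; exact h.sq v hv) (by
    intro w hw hS _
    have hWS : cl (zl (S : Subgroup G) P) (centralizer (zc (S : Subgroup G) : Set G)) ≤
        o2 (centralizer (zc (S : Subgroup G) : Set G)) := cl_le fun x hx => by
      have h1 := cj_mono x h.low
      rwa [cj_eq_of_mem_normalizer (le_normalizer_o2 _ hx)] at h1
    exact mem_zc.2 ⟨(hWS.trans (o2_le_syl (syl_of_le (le_centralizer_zc _)))) hw, fun s hs => hS s hs,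
      h.W_sq hc hne w hw⟩)

/-- **`(P, V_P)` is a pair for #19499.** -/
theorem Stage.geo (hn : NonLoc P (CZ (S : Subgroup G))) :
    Geo (S : Subgroup G) (zc (S : Subgroup G)) (zl (S : Subgroup G) P) P where
  flag := h.flag hc hne
  ne := hne
  norm := le_normalizer_zl _ _
  hz := h.hz hc hne
  nonloc := hn

omit hne in
/-- good sets for all closed points of `V_P` -/
theorem Stage.good_of_sh (hPar : IsPar (S : Subgroup G) P)
    (sh : SH (S : Subgroup G) P) (D : Subgroup G) (hD : Clo (S : Subgroup G) (zc (S : Subgroup G))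
      (zl (S : Subgroup G) P) D) (hne : D ≠ zl (S : Subgroup G) P) :
    ∃ lam T₀, GoodAt ((S : Subgroup G) ⊓ centralizer (D : Set G)) (zl (S : Subgroup G) P) D lam T₀ := by
  obtain ⟨k, U, hk, hind, hsup, hP, irr, hO, iso⟩ := sh
  let i₀ : Fin k := ⟨0, by omega⟩
  choose f hf using fun j => iso i₀ j
  refine ClosedPow.exists_good_of_par (ι := Fin k) (S := (S : Subgroup G)) (P := P) FFBr.aStmt i₀
    (by rw [Nat.card_eq_fintype_card, Fintype.card_fin]; exact hk) (syl_of_le hPar.le) hPar.toIsMinPar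
    (fun j => hPar.le.trans (hP j)) h.comm (fun v hv => by rw [← pow_two]; exact h.sq v hv) hind hsup f
    (fun j s hs u u' he => (hf j).2 s hs u u' he) (h.le_S.trans hPar.le) (hP i₀) (irr i₀) (hO i₀) ?_ hne ?_
  · exact MinSimple.VModule.o2_le_centralizer_zl hPar.le S.isPGroup'
      (ZN.ChoiceSit.syl_not_dvd (syl_of_le hPar.le)) (hPar.isLoc.char2 S hc)
  · intro w
    refine ⟨fun hw => ⟨hD.DV hw, fun t ht => mem_centralizer_iff.1 ht.2 w hw |>.symm⟩, fun hw => hD.clo w hw.1 hw.2⟩

/-- **#19499 at one end.** -/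
theorem Stage.exists_out (hPar : IsPar (S : Subgroup G) P) (hn : NonLoc P (CZ (S : Subgroup G)))
    (sh : SH (S : Subgroup G) P) (ml : MLK.{u, u}) (hK : IsKGroup (centralizer (zc (S : Subgroup G) : Set G))) :
    ∃ (D B : Subgroup G) (e : End (S : Subgroup G) (zc (S : Subgroup G)) (zl (S : Subgroup G) P) D B)
      (lam T₀ : Subgroup G), Out e lam T₀ :=
  (h.geo hc hne hn).exists_out ml hK (h.good_of_sh hc hPar sh)

end

end Cfsg.Agent.Omega.NO3b.Chain

end

-- merged: Cfsg.Agent.Mrg.Omega.NOThreeL.MergeSingle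
section

/-!
# The common socket `NotFFG` = one member of `P*(S)` (NO-3S) + several members (NO-3L)

`NO3S.NotFF K` asks that no nonlocal `P` has `V_P` FF; `Node.NO3SLevel.InL.jc` (NO-3S) uses the common socket
`Merge.NotFFG K` for ONE `P` with `V_P` not FF, the other members may be FF.

* `NotFFP K` : `HypG S P`, `P ∈ P*(S)` (one minimal parabolic): what NO-3S needs;
* `NotFFM K` : `HypG S M` when no `P ∈ P*(S)` has `HypG S P`: the rest, for NO-3L (several `P`);
* `notFFG_of_single` : `NotFFP K → NotFFM K → NotFFG K`; `NotFFG.p`, `NotFFG.m` : the converses.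

Author: helper111.
-/

set_option autoImplicit false

namespace Cfsg.Agent.Omega.NOThreeL.Merge

open Subgroup Cfsg
open Cfsg.Agent.Omega.MinPar Cfsg.Agent.Omega.Frame Cfsg.Agent.Omega.FrameNOFF

universe u

variable (K : Cls.{u})

/-- **One member of `P*(S)` with `V_P` not FF.** -/
def NotFFP : Prop :=
  ∀ (G : Type u) [Group G] [Finite G], K G → ∀ (S : Sylow 2 G) (P : Subgroup G), HypG S P →
    IsParS (S : Subgroup G) P → IsKnownSimple' G

/-- **The rest for NO-3L**: no single member of `P*(S)` has `HypG S P`. -/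
def NotFFM : Prop :=
  ∀ (G : Type u) [Group G] [Finite G], K G → ∀ (S : Sylow 2 G) (M : Subgroup G), HypG S M →
    (∀ P : Subgroup G, IsParS (S : Subgroup G) P → ¬ HypG S P) → IsKnownSimple' G

variable {K}

/-- **The common socket** = one member + the rest. -/
theorem notFFG_of_single (h1 : NotFFP K) (h2 : NotFFM K) : NotFFG K := by
  intro G _ _ hK S M hyp
  by_cases h : ∃ P : Subgroup G, IsParS (S : Subgroup G) P ∧ HypG S P
  · obtain ⟨P, hP, hyp'⟩ := h
    exact h1 G hK S P hyp' hP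
  · push Not at h
    exact h2 G hK S M hyp h

theorem NotFFG.p (h : NotFFG K) : NotFFP K := fun G _ _ hK S P hyp _ => h G hK S P hyp

theorem NotFFG.m (h : NotFFG K) : NotFFM K := fun G _ _ hK S M hyp _ => h G hK S M hyp

end Cfsg.Agent.Omega.NOThreeL.Merge

end

-- merged: Cfsg.Agent.Mrg.Omega.NO3b.Chain.Glue
section

section


/-!
# NotFF (c), local exit: the glue

* `Beta2 G` : THEOREM BETA2 (helper235, #20914): at a member of the chain no panel has `V_H` not FF and
  `V_H ≰ O₂(C_G(Z))`;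
* `last_gamma` : so at the last member every panel has `V_H` FF (case (γ));
* `EndData` : what is known at the last member `L` of the chain from `P`;
* `EndS K` : the remaining socket (the exact end of #19499 with all data); `locChain_of`, `notFF_of_end`.
-/

set_option autoImplicit false

namespace Cfsg.Agent.Omega.NO3b.Chain

open Subgroup Cfsg
open Cfsg.Agent.ZN (o2 zc zl jj zj)
open Cfsg.Agent.ZN.ChoiceBase hiding mem_zc
open Cfsg.Agent.Omega.MinPar Cfsg.Agent.Omega.Frame Cfsg.Agent.Omega.FrameNOFF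
open Cfsg.Agent.Omega.NO3b.EZero (NotFF Par)
open Cfsg.Agent.Omega.NO3b.Alpha (Fl)
open Cfsg.Agent.Omega.NO3b.NoEmp (Lines)
open Cfsg.Agent.Omega.NO3b.Wc
open Cfsg.Agent.Omega.NO3b.ClosedPt (Flag Clo Geo GoodAt End Out)
open Cfsg.Agent.Omega.ML.Final (MLK)

universe u

/-- **THEOREM BETA2** (#20914). -/
def Beta2 : Prop :=
  ∀ (G : Type u) [Group G] [Finite G] (S : Sylow 2 G) (L F T X : Subgroup G), Stage S L →
    IsCharacteristicTwoType G → zc (S : Subgroup G) ≠ ⊥ → Fl S (VL (S : Subgroup G) L) F T →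
      zc (S : Subgroup G) ≤ F → Par (VL (S : Subgroup G) L) F T X →
        NotFF (zl (S : Subgroup G) (nx (S : Subgroup G) L X)) →
          zl (S : Subgroup G) (nx (S : Subgroup G) L X) ≤ o2 (centralizer (zc (S : Subgroup G) : Set G))

/-- **The shape of `V_P`** (helper255: `exists_shape` and `k ≥ 2`). -/
def ShapeS : Prop :=
  ∀ (G : Type u) [Group G] [Finite G] (S : Sylow 2 G) (P L : Subgroup G), IsCharacteristicTwoType G →
    zc (S : Subgroup G) ≠ ⊥ → IsPar (S : Subgroup G) P → NonLoc P (CZ (S : Subgroup G)) → Stage S P →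
      Reach S P L → ∀ (U H : Subgroup G) (hH : H ≤ normalizer (U : Set G)) (hU : U ≤ centralizer (U : Set G)),
        ML (S : Subgroup G) L ≤ H → VL (S : Subgroup G) L ≤ U → HasBlk (S : Subgroup G) L hH hU → SH (S : Subgroup G) P

variable {G : Type u} [Group G] [Finite G]

/-- At the last member every panel over `Z` has `V_H` FF. -/
theorem last_gamma (hB : Beta2.{u}) {S : Sylow 2 G} {L F T X : Subgroup G} (hc : IsCharacteristicTwoType G)
    (hne : zc (S : Subgroup G) ≠ ⊥) (h : Stage S L) (hl : ∀ F T X, ¬ Step S L F T X)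
    (f : Fl S (VL (S : Subgroup G) L) F T) (hZ : zc (S : Subgroup G) ≤ F) (p : Par (VL (S : Subgroup G) L) F T X) :
    ¬ NotFF (zl (S : Subgroup G) (nx (S : Subgroup G) L X)) := by
  intro hn
  rcases last_or hc hne h hl f hZ p with h1 | h1
  · exact h1 hn
  · exact h1 (hB G S L F T X h hc hne f hZ p hn)

/-- What is known at the last member `L` of the chain from `P`. -/
structure EndData (S : Sylow 2 G) (P L : Subgroup G) : Prop where
  hyp : NO3S.HypC S
  nff : ∀ P : Subgroup G, IsParS (S : Subgroup G) P → NonLoc P (CZ (S : Subgroup G)) →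
    ¬ NO3S.FFMod (S : Subgroup G) P
  par : IsParS (S : Subgroup G) P
  nonloc : NonLoc P (CZ (S : Subgroup G))
  ne : zc (S : Subgroup G) ≠ ⊥
  stageP : Stage S P
  reach : Reach S P L
  stage : Stage S L
  last : ∀ F T X : Subgroup G, ¬ Step S L F T X
  gamma : ∀ F T X : Subgroup G, Fl S (VL (S : Subgroup G) L) F T → zc (S : Subgroup G) ≤ F →
    Par (VL (S : Subgroup G) L) F T X → ¬ NotFF (zl (S : Subgroup G) (nx (S : Subgroup G) L X))
  panel : ∃ F T X : Subgroup G, Fl S (VL (S : Subgroup G) L) F T ∧ zc (S : Subgroup G) ≤ F ∧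
    Par (VL (S : Subgroup G) L) F T X
  shape : SH (S : Subgroup G) P
  geo : Geo (S : Subgroup G) (zc (S : Subgroup G)) (zl (S : Subgroup G) P) P
  good : ∀ D : Subgroup G, Clo (S : Subgroup G) (zc (S : Subgroup G)) (zl (S : Subgroup G) P) D →
    D ≠ zl (S : Subgroup G) P →
      ∃ lam T₀, GoodAt ((S : Subgroup G) ⊓ centralizer (D : Set G)) (zl (S : Subgroup G) P) D lam T₀

/-- `C_G(Z)` is a K-group. -/
theorem kgroup_centralizer (hG : Ctx G) {Z : Subgroup G} (hne : Z ≠ ⊥) : IsKGroup (centralizer (Z : Set G)) := by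
  refine hG.kproper _ fun htop => ?_
  have := hG.simple
  have hZ : Z ≤ center G := by
    intro z hz
    rw [mem_center_iff]
    intro g
    have hg : g ∈ centralizer (Z : Set G) := by rw [htop]; exact mem_top g
    exact (mem_centralizer_iff.1 hg z hz).symm
  rcases (inferInstance : (center G).Normal).eq_bot_or_eq_top with h1 | h1
  · exact hne (le_bot_iff.1 (hZ.trans h1.le))
  · apply hG.nonComm
    refine ⟨⟨fun a b => ?_⟩⟩
    have hb : b ∈ center G := by rw [h1]; exact mem_top b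
    exact mem_center_iff.1 hb a

variable (K : Cls.{u})

/-- **The exact end** of #19499 with all data. -/
def EndS : Prop :=
  ∀ (G : Type u) [Group G] [Finite G], K G → ∀ (S : Sylow 2 G) (P L : Subgroup G), EndData S P L →
    ∀ (D B lam T₀ : Subgroup G) (e : End (S : Subgroup G) (zc (S : Subgroup G)) (zl (S : Subgroup G) P) D B),
      Out e lam T₀ → IsKnownSimple' G

/-- The K-free form of the exact end. -/
def ExactEnd : Prop :=
  ∀ (G : Type u) [Group G] [Finite G], IsKProper G → ∀ (S Z V D B lam T₀ : Subgroup G) (e : End S Z V D B),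
    Out e lam T₀ → False

variable {K}

theorem EndS.of_exact (h : ExactEnd.{u}) : EndS K := fun G _ _ _ S _ _ d D B lam T₀ e o =>
  (h G d.hyp.ctx.kproper (S : Subgroup G) _ _ D B lam T₀ e o).elim

/-- **`LocChain K` from BETA2, the shape, (ML) and the exact end.** -/
theorem locChain_of (hB : Beta2.{u}) (hS : ShapeS.{u}) (ml : MLK.{u, u}) (hE : EndS K) : LocChain K := by
  intro G _ _ hK S hyp hff P L hP hn hsP r hsL hlines hnz hlast
  have hc := hyp.ctx.char2
  have hne : zc (S : Subgroup G) ≠ ⊥ := by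
    intro h0
    apply hnz
    have h1 : (S : Subgroup G) = ⊥ := by
      by_contra hS
      exact MinSimple.Basic.zc_ne_bot S.isPGroup' hS h0
    have h2 := hP.toIsPar.isLoc
    exact absurd (le_bot_iff.1 ((h2.o2_le S).trans h1.le)) h2.o2_ne
  obtain ⟨F, T, X, f, hZ, p⟩ := hsL.exists_panel hc hne hnz
  have hgam : ∀ F T X : Subgroup G, Fl S (VL (S : Subgroup G) L) F T → zc (S : Subgroup G) ≤ F →
      Par (VL (S : Subgroup G) L) F T X → ¬ NotFF (zl (S : Subgroup G) (nx (S : Subgroup G) L X)) :=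
    fun F T X f hZ p => last_gamma hB hc hne hsL hlast f hZ p
  have sh := hS G S P L hc hne hP.toIsPar hn hsP r _ _ _ _ Step.ML_le Step.V_le
    (hsL.hasBlk hc hne f hZ p (hgam F T X f hZ p))
  obtain ⟨D, B, e, lam, T₀, o⟩ := hsP.exists_out hc hne hP.toIsPar hn sh ml (kgroup_centralizer hyp.ctx hne)
  exact hE G hK S P L ⟨hyp, hff, hP, hn, hne, hsP, r, hsL, hlast, hgam, ⟨F, T, X, f, hZ, p⟩, sh,
    hsP.geo hc hne hn, hsP.good_of_sh hc hP.toIsPar sh⟩ D B lam T₀ e o

/-- **The leaf NotFF** from BETA2, the shape, (ML) and the exact end. -/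
theorem notFF_of_end (hB : Beta2.{u}) (hS : ShapeS.{u}) (ml : MLK.{u, u}) (hE : EndS K) : NO3S.NotFF K :=
  notFF_of_locChain (locChain_of hB hS ml hE)

end Cfsg.Agent.Omega.NO3b.Chain

end

section


/-!
# The base point: the plug for `Merge.NotFFG K` (helper506, #21055 (4), #21336; helper16, #22211)

* `BaseFlag S₁ Z₁ V₁ Lam` : `(Lam, V₁)` is a pair for #19499 over `Z₁`, with `FixS` and good sets for all closed points;
* `ExactEndS` : the exact end for flags with `FixS`;
* `BasePoint` : every local exit (`HypG S M`, `LocG S M B`) has a base flag;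
* `locExit_of`, `notFFG_of`, `notFF_of` : the sockets `LocExit K`, `Merge.NotFFG K`, `NO3S.NotFF K`.
-/

set_option autoImplicit false

namespace Cfsg.Agent.Omega.NO3b.BasePt

open Subgroup Cfsg
open Cfsg.Agent.ZN (zc zl)
open Cfsg.Agent.Omega.MinPar Cfsg.Agent.Omega.Frame
open Cfsg.Agent.Omega.NO3b.ClosedPt (Flag Clo Geo GoodAt End Out FixS)
open Cfsg.Agent.Omega.NOThreeL.Merge (HypG NotFFG)
open Cfsg.Agent.Omega.NOThreeL.MergeNF (NFRoot)
open Cfsg.Agent.Omega.NOThreeL.HypGFrame (LocG LocExit)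
open Cfsg.Agent.Omega.ML.Final (MLK)

universe u

/-- **A base flag**: a pair for #19499 over `Z`, `C_W(S)` centralised by `C_G(Z)`, good sets. -/
structure BaseFlag {G : Type u} [Group G] (S Z V Lam : Subgroup G) : Prop where
  geo : Geo S Z V Lam
  fixS : FixS S Z V
  good : ∀ D : Subgroup G, Clo S Z V D → D ≠ V → ∃ lam T₀, GoodAt (S ⊓ centralizer (D : Set G)) V D lam T₀

/-- **The exact end** for flags with `FixS`. -/
def ExactEndS : Prop :=
  ∀ (G : Type u) [Group G] [Finite G], IsKProper G → ∀ (S Z V D B lam T₀ : Subgroup G) (e : End S Z V D B),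
    Z ≠ ⊥ → FixS S Z V → Out e lam T₀ → False

/-- **The base point**: every local exit has a base flag. -/
def BasePoint : Prop :=
  ∀ (G : Type u) [Group G] [Finite G] (S : Sylow 2 G) (M B : Subgroup G), HypG S M → NFRoot (S : Subgroup G) M →
    LocG S M B → ∃ S₁ Z₁ V₁ Lam : Subgroup G, BaseFlag S₁ Z₁ V₁ Lam

/-- One end of a maximal pair for a base flag. -/
theorem BaseFlag.false_of {G : Type u} [Group G] [Finite G] (hG : Ctx G) (ml : MLK.{u, u}) (hE : ExactEndS.{u})
    {S Z V Lam : Subgroup G} (h : BaseFlag S Z V Lam) : False := by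
  obtain ⟨D, B, e, lam, T₀, o⟩ := h.geo.exists_out ml (Chain.kgroup_centralizer hG h.geo.ne) h.good
  exact hE G hG.kproper S Z V D B lam T₀ e h.geo.ne h.fixS o

/-- **`LocExit K`** from (ML), the exact end and the base point. -/
theorem locExit_of {K : Cls.{u}} (ml : MLK.{u, u}) (hE : ExactEndS.{u}) (hB : BasePoint.{u}) : LocExit K := by
  intro G _ _ _ S M hM r B hLoc
  obtain ⟨S₁, Z₁, V₁, Lam, h⟩ := hB G S M B hM r hLoc
  exact (h.false_of hM.ctx ml hE).elim

/-- **`Merge.NotFFG K`** from (ML), the exact end and the base point. -/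
theorem notFFG_of {K : Cls.{u}} (ml : MLK.{u, u}) (hE : ExactEndS.{u}) (hB : BasePoint.{u}) : NotFFG K :=
  NOThreeL.HypGFrame.notFFG_of (locExit_of ml hE hB)

/-- **`NO3S.NotFF K`** from (ML), the exact end and the base point. -/
theorem notFF_of {K : Cls.{u}} (ml : MLK.{u, u}) (hE : ExactEndS.{u}) (hB : BasePoint.{u}) : NO3S.NotFF K :=
  NOThreeL.Merge.notFF_of (notFFG_of ml hE hB)

end Cfsg.Agent.Omega.NO3b.BasePt

end

section


/-!
# NotFF (c), local exit: the leaf NotFF from (ML) and the exact end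

* `beta2` : THEOREM BETA2 (helper235) in the form of the socket;
* `shapeS` : the shape of `V_P` (helper255) in the form of the socket;
* `locChain_of_end`, `notFF_of_endS`, `notFF_of_exact` : `NO3S.NotFF K` from `MLK` and `EndS K` (or `ExactEnd`).
-/

set_option autoImplicit false

namespace Cfsg.Agent.Omega.NO3b.Chain

open Subgroup Cfsg
open Cfsg.Agent.ZN (o2 zc zl)
open Cfsg.Agent.Omega.MinPar Cfsg.Agent.Omega.Frame Cfsg.Agent.Omega.FrameNOFF
open Cfsg.Agent.Omega.ML.Final (MLK)

universe u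

/-- **THEOREM BETA2** (helper235). -/
theorem beta2 : Beta2.{u} := fun _ _ _ _ _ _ _ _ h hc hne f hZ p hn => BetaTwo.beta2 h hc hne f hZ p hn

/-- **The shape of `V_P`** (helper255). -/
theorem shapeS : ShapeS.{u} := by
  intro G _ _ S P L hc hne hPar hn hP r U H hH hU hMH hVU ⟨Y, Q, BB, KV, F, Lw, C, x, B⟩
  exact exists_shape_two hH hc hne hPar hn hP r hMH hVU B

variable {K : Cls.{u}}

/-- **`LocChain K` from (ML) and the exact end.** -/
theorem locChain_of_end (ml : MLK.{u, u}) (hE : EndS K) : LocChain K := locChain_of beta2 shapeS ml hE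

/-- **The leaf NotFF from (ML) and the exact end with all data.** -/
theorem notFF_of_endS (ml : MLK.{u, u}) (hE : EndS K) : NO3S.NotFF K := notFF_of_end beta2 shapeS ml hE

/-- **The leaf NotFF from (ML) and the K-free exact end.** -/
theorem notFF_of_exact (ml : MLK.{u, u}) (hE : ExactEnd.{u}) : NO3S.NotFF K :=
  notFF_of_endS ml (EndS.of_exact hE)

end Cfsg.Agent.Omega.NO3b.Chain

end

section


/-!
# NotFF (c): ONE member `P ∈ P*(S)`, `⟨P, C_G(Z)⟩` nonlocal, with `V_P` not FF

The chain of helper957 (`Leaf.lean`) for `HypG S P`, one `P ∈ P*(S)`; the other members of `P*(S)` may be FF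
(this is how `Node.NO3SLevel.InL.jc` uses the socket; `NO3S.NotFF K` is not enough).

* `EndG`, `EndGS K` : the data at the last member and the socket of the exact end over them;
* `known_of_endG`, `notFFP_of_endG` : `Merge.NotFFP K` from `MLK` and `EndGS K`;
* `false_of_exact`, `notFFP_of_exact` : `Merge.NotFFP K` from `MLK` and the K-free `ExactEnd`.

Author: helper111.
-/

set_option autoImplicit false

namespace Cfsg.Agent.Omega.NO3b.Chain

open Subgroup Cfsg
open Cfsg.Agent.ZN (o2 zc zl)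
open Cfsg.Agent.Omega.MinPar Cfsg.Agent.Omega.Frame Cfsg.Agent.Omega.FrameNOFF
open Cfsg.Agent.Omega.NO3b.EZero (NotFF Par)
open Cfsg.Agent.Omega.NO3b.Alpha (Fl)
open Cfsg.Agent.Omega.NO3b.Wc
open Cfsg.Agent.Omega.ML.Final (MLK)
open Cfsg.Agent.Omega.NOThreeL.Merge (HypG NotFFP)
open Cfsg.Agent.Omega.NO3b.ClosedPt (Clo Geo GoodAt End Out)

universe u

variable {G : Type u} [Group G] [Finite G]

/-- What is known at the last member `L` of the chain from one `P` with `HypG S P` (`EndData` without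
`HypC` and without 'no nonlocal member is FF'). -/
structure EndG (S : Sylow 2 G) (P L : Subgroup G) : Prop where
  hyp : HypG S P
  par : IsParS (S : Subgroup G) P
  ne : zc (S : Subgroup G) ≠ ⊥
  stageP : Stage S P
  reach : Reach S P L
  stage : Stage S L
  last : ∀ F T X : Subgroup G, ¬ Step S L F T X
  gamma : ∀ F T X : Subgroup G, Fl S (VL (S : Subgroup G) L) F T → zc (S : Subgroup G) ≤ F →
    Par (VL (S : Subgroup G) L) F T X → ¬ NotFF (zl (S : Subgroup G) (nx (S : Subgroup G) L X))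
  panel : ∃ F T X : Subgroup G, Fl S (VL (S : Subgroup G) L) F T ∧ zc (S : Subgroup G) ≤ F ∧
    Par (VL (S : Subgroup G) L) F T X
  shape : SH (S : Subgroup G) P
  geo : Geo (S : Subgroup G) (zc (S : Subgroup G)) (zl (S : Subgroup G) P) P
  good : ∀ D : Subgroup G, Clo (S : Subgroup G) (zc (S : Subgroup G)) (zl (S : Subgroup G) P) D →
    D ≠ zl (S : Subgroup G) P →
      ∃ lam T₀, GoodAt ((S : Subgroup G) ⊓ centralizer (D : Set G)) (zl (S : Subgroup G) P) D lam T₀

/-- the data exist -/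
theorem exists_endG (ml : MLK.{u, u}) {S : Sylow 2 G} {P : Subgroup G} (hyp : HypG S P)
    (hP : IsParS (S : Subgroup G) P) : ∃ L, EndG S P L ∧
      ∃ (D B : Subgroup G) (e : End (S : Subgroup G) (zc (S : Subgroup G)) (zl (S : Subgroup G) P) D B)
        (lam T₀ : Subgroup G), Out e lam T₀ := by
  have hc := hyp.ctx.char2
  have hne : zc (S : Subgroup G) ≠ ⊥ := by
    intro h0
    have h1 : (S : Subgroup G) = ⊥ := by
      by_contra hS
      exact MinSimple.Basic.zc_ne_bot S.isPGroup' hS h0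
    have h2 := hP.toIsPar.isLoc
    exact h2.o2_ne (le_bot_iff.1 ((h2.o2_le S).trans h1.le))
  have hst := stage_of hc hP hyp.nff hyp.lowM
  obtain ⟨L, r, hlast⟩ := exists_last hc hne hst
  have hsL := r.stage hc hne hst
  have hnz := Root.nle hsL.toRoot (r.le hc hne hst) hyp.nonLoc hne
  obtain ⟨F, T, X, f, hZ, p⟩ := hsL.exists_panel hc hne hnz
  have hgam : ∀ F T X : Subgroup G, Fl S (VL (S : Subgroup G) L) F T → zc (S : Subgroup G) ≤ F →
      Par (VL (S : Subgroup G) L) F T X → ¬ NotFF (zl (S : Subgroup G) (nx (S : Subgroup G) L X)) :=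
    fun F T X f hZ p => last_gamma beta2 hc hne hsL hlast f hZ p
  have sh := shapeS G S P L hc hne hP.toIsPar hyp.nonLoc hst r _ _ _ _ Step.ML_le Step.V_le
    (hsL.hasBlk hc hne f hZ p (hgam F T X f hZ p))
  exact ⟨L, ⟨hyp, hP, hne, hst, r, hsL, hlast, hgam, ⟨F, T, X, f, hZ, p⟩, sh,
      hst.geo hc hne hyp.nonLoc, hst.good_of_sh hc hP.toIsPar sh⟩,
    hst.exists_out hc hne hP.toIsPar hyp.nonLoc sh ml (kgroup_centralizer hyp.ctx hne)⟩

/-- The exact end at one member (K-free). -/
theorem false_of_exact (ml : MLK.{u, u}) (hE : ExactEnd.{u}) {S : Sylow 2 G}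
    {P : Subgroup G} (hyp : HypG S P) (hP : IsParS (S : Subgroup G) P) : False := by
  obtain ⟨L, -, D, B, e, lam, T₀, o⟩ := exists_endG ml hyp hP
  exact hE G hyp.ctx.kproper (S : Subgroup G) _ _ D B lam T₀ e o

variable (K : Cls.{u})

/-- **The exact end** of #19499 at one member, with all data. -/
def EndGS : Prop :=
  ∀ (G : Type u) [Group G] [Finite G], K G → ∀ (S : Sylow 2 G) (P L : Subgroup G), EndG S P L →
    ∀ (D B lam T₀ : Subgroup G) (e : End (S : Subgroup G) (zc (S : Subgroup G)) (zl (S : Subgroup G) P) D B),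
      Out e lam T₀ → IsKnownSimple' G

variable {K}

/-- **NO-3S needs only this** (the form with data). -/
theorem notFFP_of_endG (ml : MLK.{u, u}) (hE : EndGS K) : NotFFP K := by
  intro G _ _ hK S P hyp hP
  obtain ⟨L, d, D, B, e, lam, T₀, o⟩ := exists_endG ml hyp hP
  exact hE G hK S P L d D B lam T₀ e o

/-- **NO-3S needs only this.** -/
theorem notFFP_of_exact (ml : MLK.{u, u}) (hE : ExactEnd.{u}) : NotFFP K :=
  fun _ _ _ _ _ _ hyp hP => (false_of_exact ml hE hyp hP).elim

end Cfsg.Agent.Omega.NO3b.Chain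

end

end
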